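import Cfsg.Agent.H52.EP.U43
import Cfsg.Agent.H419.EP.Soc
import Cfsg.Agent.S0280
import Cfsg.Agent.S0283
import Cfsg.Agent.S0496
import Cfsg.Agent.S0815
import Cfsg.Agent.S3948

/-!
# S3499, socle `U₄(3)` (helper52, task 5955)

`u43_index` : `HasSoc A (PSU 4 K 3)`, `|K| = 9`, implies `A.index ≤ 174 * 10 ^ 14`.
-/

set_option autoImplicit false

namespace Cfsg.Agent.H52.EP

open Subgroup Cfsg.Agent.H284 Cfsg.Agent.H419.EP

theorem card_psu43 {K : Type*} [Field K] [Fintype K] (hK : Fintype.card K = 9) :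
    Nat.card (Cfsg.PSU 4 K 3) = 3265920 := by
  have hK' : Fintype.card K = 3 ^ 2 := by rw [hK]; norm_num
  have h1 := S0280.result hK' 4 (by norm_num)
  simp [Finset.prod_range_succ, Nat.even_iff] at h1
  omega

theorem card_aut_psu43 {K : Type*} [Field K] [Fintype K] (hK : Fintype.card K = 9) :
    Nat.card (MulAut (Cfsg.PSU 4 K 3)) = 3265920 * 8 := by
  have h3 : Fact (Nat.Prime 3) := ⟨Nat.prime_three⟩
  have hK' : Fintype.card K = 3 ^ 2 := by rw [hK]; norm_num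
  have h := S0815.result 3 1 le_rfl (by norm_num) hK' 4 (by norm_num) (by norm_num)
  rw [h, card_psu43 hK]
  norm_num

theorem simple_psu43 {K : Type*} [Field K] [Fintype K] (hK : Fintype.card K = 9) : IsSimpleGroup (Cfsg.PSU 4 K 3) :=
  S0283.result (q := 3) (by rw [hK]; norm_num) 4 (by norm_num) (by norm_num)

/-- the data of a group with the socle `U₄(3)` -/
theorem soc_data {Q : Type*} [Group Q] [Finite Q] {A : Subgroup Q} {K : Type*} [Field K] [Fintype K]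
    (hK : Fintype.card K = 9) (hsoc : HasSoc A (Cfsg.PSU 4 K 3)) : ∃ N : Subgroup Q, N ≤ A ∧
      (∀ a ∈ A, ∀ n ∈ N, a * n * a⁻¹ ∈ N) ∧ (∀ a ∈ A, (∀ n ∈ N, a * n = n * a) → a = 1) ∧ IsSimpleGroup N ∧
      Nat.card N = 3265920 ∧ (∃ k : ℕ, k ∣ 8 ∧ Nat.card A = Nat.card N * k) ∧ Nonempty (N ≃* Cfsg.PSU 4 K 3) := by
  obtain ⟨f, hf⟩ := hsoc.exists_hom
  obtain ⟨N, h1, h2, h3, ⟨e⟩⟩ := hsoc
  have hs := simple_psu43 hK
  have hsN : IsSimpleGroup N := e.isSimpleGroup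
  have hcN : Nat.card N = 3265920 := by rw [Nat.card_congr e.toEquiv, card_psu43 hK]
  have hfin : Finite (Cfsg.PSU 4 K 3) := Finite.of_equiv N e.toEquiv
  have hd := Subgroup.card_dvd_of_injective f hf
  rw [card_aut_psu43 hK, ← hcN] at hd
  obtain ⟨k, hk⟩ := Subgroup.card_dvd_of_le h1
  refine ⟨N, h1, h2, h3, hsN, hcN, ⟨k, ?_, hk⟩, ⟨e⟩⟩
  rw [hk] at hd
  exact Nat.dvd_of_mul_dvd_mul_left Nat.card_pos hd

/-- **the bound** -/
theorem u43_index {Q : Type*} [Group Q] [Finite Q] (hsQ : IsSimpleGroup Q) {A : Subgroup Q} {Γ : Subgroup (MulAut Q)}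
    (h : EPT A Γ) {K : Type*} [Field K] [Fintype K] (hK : Fintype.card K = 9) (hsoc : HasSoc A (Cfsg.PSU 4 K 3)) :
    A.index ≤ 174 * 10 ^ 14 := by
  obtain ⟨N, h1, h2, h3, hs, hcN, ⟨k, hk, hcA⟩, -⟩ := soc_data hK hsoc
  refine index_le h h1 h2 h3 hs hcN hk hcA hsQ (fun X hX => Cfsg.Agent.S3948.result) ?_
  intro X hX hns hlt
  have hc : ¬ IsMulCommutative X := by
    intro hc
    apply hns
    apply Group.isSolvable_of_comm
    intro a b
    exact mul_comm' a b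
  rcases Cfsg.Agent.S0496.result hc (by omega) with h3 | h3 | h3 | h3 | h3 | h3
  · exact Or.inl h3
  · exact Or.inr h3
  all_goals omega

end Cfsg.Agent.H52.EP
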