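import Cfsg.Agent.H59.EP.Count

/-!
# S3499, `U₄(3)` (helper52): counting subgroups
-/

set_option autoImplicit false

namespace Cfsg.Agent.H52.EP

open Subgroup Cfsg.Agent.H59.EP

variable {B : Type*} [Group B]

/-- a simple group with a subgroup of index `k > 1` has at most `k!` elements -/
theorem card_le_factorial [Finite B] (hs : IsSimpleGroup B) {H : Subgroup B} (hH : H ≠ ⊤) :
    Nat.card B ≤ H.index.factorial := by
  have hinj : Function.Injective (MulAction.toPermHom B (B ⧸ H)) := by
    rw [← MonoidHom.ker_eq_bot_iff]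
    rcases hs.eq_bot_or_eq_top_of_normal (MulAction.toPermHom B (B ⧸ H)).ker inferInstance with h | h
    · exact h
    · exfalso
      apply hH
      rw [Subgroup.eq_top_iff']
      intro g
      have h1 : g ∈ (MulAction.toPermHom B (B ⧸ H)).ker := by rw [h]; exact mem_top _
      rw [MonoidHom.mem_ker] at h1
      have h2 : g • ((1 : B) : B ⧸ H) = ((1 : B) : B ⧸ H) := by
        have := congrArg (fun f : Equiv.Perm (B ⧸ H) => f ((1 : B) : B ⧸ H)) h1
        exact this
      have h3 : ((g * 1 : B) : B ⧸ H) = ((1 : B) : B ⧸ H) := h2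
      rw [eq_comm, QuotientGroup.eq, inv_one, one_mul, mul_one] at h3
      exact h3
  have := Nat.card_le_card_of_injective _ hinj
  rwa [Nat.card_perm] at this

/-- elementary abelian subgroups, by Sylow subgroups -/
theorem ncard_elab_sylow [Finite B] {s : ℕ} (hs : s.Prime) :
    {X : Subgroup B | ElAb s X ∧ X ≠ ⊥}.ncard ≤
      (Nat.card B / s ^ (Nat.card B).factorization s) * gal s ((Nat.card B).factorization s) := by
  classical
  have hfact : Fact s.Prime := ⟨hs⟩
  have hfin : Finite (Sylow s B) := inferInstance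
  have := Fintype.ofFinite (Sylow s B)
  have hsub : {X : Subgroup B | ElAb s X ∧ X ≠ ⊥} ⊆
      ⋃ P ∈ (Finset.univ : Finset (Sylow s B)), {E : Subgroup B | E ≤ (P : Subgroup B) ∧ ElAb s E ∧ E ≠ ⊥} := by
    rintro X ⟨h1, h2⟩
    have hps : IsPGroup s X := by
      rintro ⟨y, hy⟩
      refine ⟨1, Subtype.ext ?_⟩
      rw [pow_one]
      exact h1.exp y hy
    obtain ⟨R, hR⟩ := hps.exists_le_sylow
    simp only [Set.mem_iUnion]
    exact ⟨R, Finset.mem_univ _, hR, h1, h2⟩
  have hun : ∀ I : Finset (Sylow s B), (⋃ P ∈ I, {E : Subgroup B | E ≤ (P : Subgroup B) ∧ ElAb s E ∧ E ≠ ⊥}).ncard ≤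
      ∑ P ∈ I, {E : Subgroup B | E ≤ (P : Subgroup B) ∧ ElAb s E ∧ E ≠ ⊥}.ncard := by
    intro I
    induction I using Finset.induction_on with
    | empty => simp
    | insert j I hj ih =>
      rw [Finset.sum_insert hj, Finset.set_biUnion_insert]
      exact (Set.ncard_union_le _ _).trans (Nat.add_le_add_left ih _)
  refine (Set.ncard_le_ncard hsub (Set.toFinite _)).trans ((hun _).trans ?_)
  have hc : ∀ P : Sylow s B, Nat.card (P : Subgroup B) = s ^ (Nat.card B).factorization s := fun P => P.card_eq_multiplicity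
  have h1 : ∀ P ∈ (Finset.univ : Finset (Sylow s B)),
      {E : Subgroup B | E ≤ (P : Subgroup B) ∧ ElAb s E ∧ E ≠ ⊥}.ncard ≤ gal s ((Nat.card B).factorization s) :=
    fun P _ => ncard_elab_le hs (hc P)
  refine (Finset.sum_le_card_nsmul _ _ _ h1).trans ?_
  rw [smul_eq_mul]
  apply Nat.mul_le_mul_right
  rw [Finset.card_univ, ← Nat.card_eq_fintype_card]
  let P : Sylow s B := default
  have h2 := Nat.le_of_dvd (Nat.pos_of_ne_zero (Subgroup.index_ne_zero_of_finite)) (Sylow.card_dvd_index P)
  have h3 : (P : Subgroup B).index = Nat.card B / s ^ (Nat.card B).factorization s := by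
    have h4 := (P : Subgroup B).card_mul_index
    rw [hc P] at h4
    exact (Nat.div_eq_of_eq_mul_right (pow_pos hs.pos _) h4.symm).symm
  rwa [h3] at h2

/-- simple subgroups of order at least `c` -/
theorem ncard_simple_mul_le [Finite B] {𝒮 : Set (Subgroup B)} {c : ℕ} (hs : ∀ X ∈ 𝒮, IsSimpleGroup X ∧ ¬ Group.IsSolvable X)
    (hgen : ∀ X ∈ 𝒮, ∃ a b : X, closure ({a, b} : Set X) = ⊤) (hc : ∀ X ∈ 𝒮, c ≤ Nat.card X) :
    𝒮.ncard * c ≤ Nat.card B ^ 2 := by
  classical
  have hfin : 𝒮.Finite := Set.toFinite _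
  let G : Subgroup B → Set (B × B) := fun X => {p | closure ({p.1, p.2} : Set B) = X}
  have hG : ∀ X ∈ 𝒮, c ≤ (G X).ncard := by
    intro X hX
    obtain ⟨hXs, hXn⟩ := hs X hX
    obtain ⟨a, b, hab⟩ := hgen X hX
    refine (hc X hX).trans ?_
    have hcl : closure ({(a : B), (b : B)} : Set B) = X := by
      have h1 := congrArg (Subgroup.map X.subtype) hab
      rw [MonoidHom.map_closure, Set.image_pair, ← MonoidHom.range_eq_map, X.range_subtype] at h1
      exact h1
    have hinj : Set.InjOn (fun g : B => (g * a * g⁻¹, g * b * g⁻¹)) (X : Set B) := by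
      intro g hg k hk e
      simp only [Prod.mk.injEq] at e
      have h1 : ∀ x ∈ X, (k⁻¹ * g) * x = x * (k⁻¹ * g) := by
        have hle : X ≤ centralizer {k⁻¹ * g} := by
          rw [← hcl, closure_le]
          rintro x (rfl | rfl)
          · rw [SetLike.mem_coe, mem_centralizer_singleton_iff]
            have h2 := e.1
            rw [mul_inv_eq_iff_eq_mul] at h2
            have h3 : k⁻¹ * (g * a) = a * k⁻¹ * g := by rw [h2]; group
            rw [mul_assoc k⁻¹ g, h3, mul_assoc]
          · rw [SetLike.mem_coe, mem_centralizer_singleton_iff]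
            have h2 := e.2
            rw [mul_inv_eq_iff_eq_mul] at h2
            have h3 : k⁻¹ * (g * b) = b * k⁻¹ * g := by rw [h2]; group
            rw [mul_assoc k⁻¹ g, h3, mul_assoc]
        intro x hx
        exact (mem_centralizer_singleton_iff.1 (hle hx)).symm
      have hz : (⟨k⁻¹ * g, mul_mem (inv_mem hk) hg⟩ : X) ∈ center X := by
        rw [mem_center_iff]
        intro x
        exact Subtype.ext (h1 x x.2).symm
      have hzb : center X = ⊥ := by
        rcases hXs.eq_bot_or_eq_top_of_normal (center X) inferInstance with h2 | h2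
        · exact h2
        · exfalso
          apply hXn
          apply Group.isSolvable_of_comm
          intro x y
          have : y ∈ center X := by rw [h2]; exact mem_top _
          exact mem_center_iff.1 this x
      rw [hzb, mem_bot] at hz
      have h2 : k⁻¹ * g = 1 := Subtype.ext_iff.1 hz
      rw [inv_mul_eq_one] at h2
      exact h2.symm
    have hcard : Nat.card X = ((fun g : B => (g * (a : B) * g⁻¹, g * (b : B) * g⁻¹)) '' (X : Set B)).ncard := by
      rw [hinj.ncard_image]
      rfl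
    rw [hcard]
    refine Set.ncard_le_ncard ?_ (Set.toFinite _)
    rintro _ ⟨g, hg, rfl⟩
    show closure ({g * (a : B) * g⁻¹, g * (b : B) * g⁻¹} : Set B) = X
    have h1 : ({g * (a : B) * g⁻¹, g * (b : B) * g⁻¹} : Set B) = (MulAut.conj g).toMonoidHom '' {(a : B), (b : B)} := by
      rw [Set.image_pair]
      rfl
    rw [h1, ← MonoidHom.map_closure, hcl]
    ext y
    constructor
    · rintro ⟨x, hx, rfl⟩
      exact X.mul_mem (X.mul_mem hg hx) (X.inv_mem hg)
    · intro hy
      refine ⟨g⁻¹ * y * g, X.mul_mem (X.mul_mem (X.inv_mem hg) hy) hg, ?_⟩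
      show g * (g⁻¹ * y * g) * g⁻¹ = y
      group
  have hdis : (hfin.toFinset : Set (Subgroup B)).PairwiseDisjoint fun X => (Set.toFinite (G X)).toFinset := by
    intro X _ Y _ hne
    rw [Function.onFun, Finset.disjoint_left]
    intro p hp hq
    rw [Set.Finite.mem_toFinset] at hp hq
    exact hne (hp.symm.trans hq)
  have h1 : (hfin.toFinset.biUnion fun X => (Set.toFinite (G X)).toFinset).card ≤ Nat.card (B × B) := by
    have := Set.ncard_le_ncard (Set.subset_univ
      ((hfin.toFinset.biUnion fun X => (Set.toFinite (G X)).toFinset : Finset (B × B)) : Set (B × B))) (Set.toFinite _)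
    rw [Set.ncard_coe_finset, Set.ncard_univ] at this
    exact this
  rw [Finset.card_biUnion hdis, Nat.card_prod, ← pow_two] at h1
  refine le_trans ?_ h1
  rw [Set.ncard_eq_toFinset_card _ hfin, ← smul_eq_mul]
  apply Finset.card_nsmul_le_sum
  intro X hX
  rw [← Set.ncard_eq_toFinset_card _ (Set.toFinite _)]
  exact hG X (hfin.mem_toFinset.1 hX)

/-- subgroups of the order `p`, when `p` divides the order exactly once -/
theorem ncard_order_p [Finite B] {p : ℕ} (hp : p.Prime) (h1 : (Nat.card B).factorization p = 1) :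
    {P : Subgroup B | Nat.card P = p}.ncard = Nat.card (Sylow p B) := by
  have hfact : Fact p.Prime := ⟨hp⟩
  rw [← Nat.card_coe_set_eq]
  refine Nat.card_congr ⟨fun P => Sylow.ofCard P.1 (by rw [h1, pow_one]; exact P.2),
    fun P => ⟨(P : Subgroup B), by
      show Nat.card (P : Subgroup B) = p
      rw [P.card_eq_multiplicity, h1, pow_one]⟩, fun P => rfl, fun P => Sylow.ext rfl⟩

/-- subgroups generated by any two of their `n` subgroups of order `p` -/
theorem ncard_pair_le [Finite B] {𝒮 : Set (Subgroup B)} {p n : ℕ}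
    (h1 : ∀ X ∈ 𝒮, {P : Subgroup B | Nat.card P = p ∧ P ≤ X}.ncard = n)
    (h2 : ∀ X ∈ 𝒮, ∀ P Q : Subgroup B, Nat.card P = p → P ≤ X → Nat.card Q = p → Q ≤ X → P ≠ Q → P ⊔ Q = X) :
    𝒮.ncard * (n * n - n) ≤ {P : Subgroup B | Nat.card P = p}.ncard ^ 2 := by
  classical
  have hfin : 𝒮.Finite := Set.toFinite _
  let U : Subgroup B → Finset (Subgroup B) := fun X => (Set.toFinite {P : Subgroup B | Nat.card P = p ∧ P ≤ X}).toFinset
  let V : Finset (Subgroup B) := (Set.toFinite {P : Subgroup B | Nat.card P = p}).toFinset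
  have hU : ∀ X P, P ∈ U X ↔ Nat.card P = p ∧ P ≤ X := fun X P => Set.Finite.mem_toFinset _
  have hV : ∀ P, P ∈ V ↔ Nat.card P = p := fun P => Set.Finite.mem_toFinset _
  let W : Subgroup B → Finset (Subgroup B × Subgroup B) := fun X => (U X).offDiag
  have hW : ∀ X ∈ 𝒮, (W X).card = n * n - n := by
    intro X hX
    have h3 : (U X).card = n := by rw [← h1 X hX, Set.ncard_eq_toFinset_card _ (Set.toFinite _)]
    rw [Finset.offDiag_card, h3]
  have hdis : (hfin.toFinset : Set (Subgroup B)).PairwiseDisjoint W := by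
    intro X hX Y hY hne
    rw [Function.onFun, Finset.disjoint_left]
    rintro ⟨P, R⟩ hp hq
    rw [Finset.mem_offDiag, hU, hU] at hp hq
    rw [Finset.mem_coe, Set.Finite.mem_toFinset] at hX hY
    apply hne
    rw [← h2 X hX P R hp.1.1 hp.1.2 hp.2.1.1 hp.2.1.2 hp.2.2, ← h2 Y hY P R hq.1.1 hq.1.2 hq.2.1.1 hq.2.1.2 hq.2.2]
  have hle : (hfin.toFinset.biUnion W).card ≤ (V ×ˢ V).card := by
    apply Finset.card_le_card
    intro ⟨P, R⟩ hp
    rw [Finset.mem_biUnion] at hp
    obtain ⟨X, _, hp⟩ := hp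
    rw [Finset.mem_offDiag, hU, hU] at hp
    rw [Finset.mem_product, hV, hV]
    exact ⟨hp.1.1, hp.2.1.1⟩
  rw [Finset.card_biUnion hdis, Finset.card_product, ← pow_two] at hle
  have h4 : V.card = {P : Subgroup B | Nat.card P = p}.ncard := by
    rw [Set.ncard_eq_toFinset_card _ (Set.toFinite _)]
  rw [← h4]
  refine le_trans ?_ hle
  rw [Set.ncard_eq_toFinset_card _ hfin, ← smul_eq_mul]
  apply Finset.card_nsmul_le_sum
  intro X hX
  rw [hW X (hfin.mem_toFinset.1 hX)]

end Cfsg.Agent.H52.EP
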