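import Cfsg.Agent.H52.EP.Cnt

/-!
# S3499, `U₄(3)` (helper52): the simple subgroups of a group of order `3265920`
-/

set_option autoImplicit false

namespace Cfsg.Agent.H52.EP

open Subgroup Cfsg.Agent.H59.EP

section Gen

variable {G : Type*} [Group G] [Finite G]

/-- the number of Sylow `p`-subgroups for `|G| = p m` -/
theorem sylow_facts {p m : ℕ} (hp : p.Prime) (hG : Nat.card G = p * m) (hpm : ¬ p ∣ m) :
    Nat.card (Sylow p G) ∣ m ∧ Nat.card (Sylow p G) % p = 1 % p ∧ (Nat.card G).factorization p = 1 := by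
  have hfact : Fact p.Prime := ⟨hp⟩
  have hm : m ≠ 0 := by
    rintro rfl
    exact hpm (dvd_zero _)
  have h1 : (Nat.card G).factorization p = 1 := by
    rw [hG, Nat.factorization_mul hp.ne_zero hm, Finsupp.add_apply, hp.factorization_self,
      Nat.factorization_eq_zero_of_not_dvd hpm]
  refine ⟨?_, card_sylow_modEq_one p G, h1⟩
  let P : Sylow p G := default
  have h2 := Sylow.card_dvd_index P
  have h3 : (P : Subgroup G).index = m := by
    have h4 := (P : Subgroup G).card_mul_index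
    rw [P.card_eq_multiplicity, h1, pow_one, hG] at h4
    exact Nat.eq_of_mul_eq_mul_left hp.pos h4
  rwa [h3] at h2

/-- two subgroups of order `p` generate a subgroup with more than one Sylow subgroup -/
theorem two_sylow {p m : ℕ} (hp : p.Prime) (hG : Nat.card G = p * m) (hpm : ¬ p ∣ m) {P Q : Subgroup G}
    (hP : Nat.card P = p) (hQ : Nat.card Q = p) (hne : P ≠ Q) :
    ∃ m' n : ℕ, Nat.card (P ⊔ Q : Subgroup G) = p * m' ∧ m' ∣ m ∧ n ∣ m' ∧ n % p = 1 % p ∧ n ≠ 1 := by
  have hfact : Fact p.Prime := ⟨hp⟩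
  have h1 : p ∣ Nat.card (P ⊔ Q : Subgroup G) := by
    conv_lhs => rw [← hP]
    exact Subgroup.card_dvd_of_le le_sup_left
  obtain ⟨m', hm'⟩ := h1
  have h2 : m' ∣ m := by
    have h3 : p * m' ∣ p * m := by
      rw [← hm', ← hG]
      exact Subgroup.card_subgroup_dvd_card _
    exact Nat.dvd_of_mul_dvd_mul_left hp.pos h3
  have hpm' : ¬ p ∣ m' := fun h => hpm (h.trans h2)
  obtain ⟨s1, s2, s3⟩ := sylow_facts hp hm' hpm'
  refine ⟨m', _, hm', h2, s1, s2, ?_⟩
  intro hn
  have hsub : Subsingleton (Sylow p (P ⊔ Q : Subgroup G)) := (Nat.card_eq_one_iff_unique.1 hn).1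
  have hc : ∀ R : Subgroup G, Nat.card R = p → R ≤ P ⊔ Q → Nat.card (R.subgroupOf (P ⊔ Q)) =
      p ^ (Nat.card (P ⊔ Q : Subgroup G)).factorization p := by
    intro R hR hle
    rw [s3, pow_one, ← hR]
    exact Nat.card_congr (Subgroup.subgroupOfEquivOfLe hle).toEquiv
  have h3 := Subsingleton.elim (Sylow.ofCard _ (hc P hP le_sup_left)) (Sylow.ofCard _ (hc Q hQ le_sup_right))
  have h4 : P.subgroupOf (P ⊔ Q) = Q.subgroupOf (P ⊔ Q) := congrArg Sylow.toSubgroup h3
  apply hne
  rw [Subgroup.subgroupOf_inj, inf_eq_left.2 le_sup_left, inf_eq_left.2 le_sup_right] at h4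
  exact h4

theorem sup_eq_top_sixty (hs : IsSimpleGroup G) (hG : Nat.card G = 60) {P Q : Subgroup G} (hP : Nat.card P = 5)
    (hQ : Nat.card Q = 5) (hne : P ≠ Q) : P ⊔ Q = ⊤ := by
  obtain ⟨m, n, h1, h2, h3, h4, h5⟩ := two_sylow (m := 12) (by norm_num) (by rw [hG]) (by norm_num) hP hQ hne
  by_contra htop
  have h6 := card_le_factorial hs htop
  have h7 := (P ⊔ Q).card_mul_index
  rw [hG] at h6 h7
  rw [h1] at h7
  have hm : m ≤ 12 := Nat.le_of_dvd (by norm_num) h2
  have hn : n ≤ m := Nat.le_of_dvd (Nat.pos_of_ne_zero (by rintro rfl; omega)) h3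
  have h8 : n = 6 ∨ n = 11 := by omega
  have h9 : m = 6 ∨ m = 12 ∨ m = 11 := by
    rcases h8 with rfl | rfl <;> omega
  rcases h9 with rfl | rfl | rfl
  · have : (P ⊔ Q).index = 2 := by omega
    rw [this] at h6
    norm_num [Nat.factorial] at h6
  · have : (P ⊔ Q).index = 1 := by omega
    rw [this] at h6
    norm_num [Nat.factorial] at h6
  · omega

theorem sup_eq_top_168 (hs : IsSimpleGroup G) (hG : Nat.card G = 168) {P Q : Subgroup G} (hP : Nat.card P = 7)
    (hQ : Nat.card Q = 7) (hne : P ≠ Q) : P ⊔ Q = ⊤ := by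
  obtain ⟨m, n, h1, h2, h3, h4, h5⟩ := two_sylow (m := 24) (by norm_num) (by rw [hG]) (by norm_num) hP hQ hne
  by_contra htop
  have h6 := card_le_factorial hs htop
  have h7 := (P ⊔ Q).card_mul_index
  rw [hG] at h6 h7
  rw [h1] at h7
  have hm : m ≤ 24 := Nat.le_of_dvd (by norm_num) h2
  have hn : n ≤ m := Nat.le_of_dvd (Nat.pos_of_ne_zero (by rintro rfl; omega)) h3
  have h8 : n = 8 ∨ n = 15 ∨ n = 22 := by omega
  have h9 : m = 8 ∨ m = 24 := by
    rcases h8 with rfl | rfl | rfl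
    · have : m = 8 ∨ m = 16 ∨ m = 24 := by omega
      rcases this with rfl | rfl | rfl
      · exact Or.inl rfl
      · omega
      · exact Or.inr rfl
    · have h10 : m = 15 := by
        have : m ≠ 0 := by
          rintro rfl
          omega
        omega
      subst h10
      norm_num at h2
    · have h10 : m = 22 := by
        have : m ≠ 0 := by
          rintro rfl
          omega
        omega
      subst h10
      norm_num at h2
  rcases h9 with rfl | rfl
  · have : (P ⊔ Q).index = 3 := by omega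
    rw [this] at h6
    norm_num [Nat.factorial] at h6
  · have : (P ⊔ Q).index = 1 := by omega
    rw [this] at h6
    norm_num [Nat.factorial] at h6

/-- the number of Sylow subgroups is not `1` in a simple group which is not a `p`-group -/
theorem sylow_ne_one (hs : IsSimpleGroup G) {p m : ℕ} (hp : p.Prime) (hG : Nat.card G = p * m) (hpm : ¬ p ∣ m)
    (hm : m ≠ 1) : Nat.card (Sylow p G) ≠ 1 := by
  have hfact : Fact p.Prime := ⟨hp⟩
  obtain ⟨s1, s2, s3⟩ := sylow_facts hp hG hpm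
  intro h
  have hsub : Subsingleton (Sylow p G) := (Nat.card_eq_one_iff_unique.1 h).1
  let P : Sylow p G := default
  have hn : (P : Subgroup G).Normal := Sylow.normal_of_subsingleton P
  have hc : Nat.card (P : Subgroup G) = p := by rw [P.card_eq_multiplicity, s3, pow_one]
  rcases hs.eq_bot_or_eq_top_of_normal _ hn with h1 | h1
  · rw [h1, Subgroup.card_bot] at hc
    exact hp.one_lt.ne hc
  · rw [h1, Subgroup.card_top, hG] at hc
    apply hm
    have := hp.pos
    nlinarith [hc]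

end Gen

variable {B : Type*} [Group B]

/-- transfer to subgroups -/
theorem ncard_sub (X : Subgroup B) (p : ℕ) :
    {P : Subgroup B | Nat.card P = p ∧ P ≤ X}.ncard = {P : Subgroup X | Nat.card P = p}.ncard := by
  have h1 : {P : Subgroup B | Nat.card P = p ∧ P ≤ X} = (fun P : Subgroup X => P.map X.subtype) '' {P : Subgroup X | Nat.card P = p} := by
    ext P
    constructor
    · rintro ⟨h1, h2⟩
      refine ⟨P.subgroupOf X, ?_, ?_⟩
      · show Nat.card (P.subgroupOf X) = p
        rw [← h1]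
        exact Nat.card_congr (Subgroup.subgroupOfEquivOfLe h2).toEquiv
      · exact (Subgroup.map_subgroupOf_eq_of_le h2)
    · rintro ⟨P, h1, rfl⟩
      refine ⟨?_, ?_⟩
      · rw [← (show Nat.card P = p from h1)]
        exact (Nat.card_congr (P.equivMapOfInjective _ X.subtype_injective).toEquiv).symm
      · rintro _ ⟨y, _, rfl⟩
        exact y.2
  rw [h1, Set.ncard_image_of_injective _ (Subgroup.map_injective X.subtype_injective)]

theorem ncard_sixty [Finite B] (hB : Nat.card B = 3265920) :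
    {X : Subgroup B | IsSimpleGroup X ∧ Nat.card X = 60}.ncard ≤ 888852787 := by
  have h1 : ∀ X ∈ {X : Subgroup B | IsSimpleGroup X ∧ Nat.card X = 60}, {P : Subgroup B | Nat.card P = 5 ∧ P ≤ X}.ncard = 6 := by
    rintro X ⟨hX, hc⟩
    obtain ⟨s1, s2, s3⟩ := sylow_facts (G := X) (m := 12) Nat.prime_five (by rw [hc]) (by norm_num)
    have s4 := sylow_ne_one hX (m := 12) Nat.prime_five (by rw [hc]) (by norm_num) (by norm_num)
    rw [ncard_sub, ncard_order_p Nat.prime_five s3]
    have h2 := Nat.le_of_dvd (by norm_num) s1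
    generalize Nat.card (Sylow 5 X) = n at *
    interval_cases n <;> omega
  have h2 : ∀ X ∈ {X : Subgroup B | IsSimpleGroup X ∧ Nat.card X = 60}, ∀ P Q : Subgroup B, Nat.card P = 5 → P ≤ X →
      Nat.card Q = 5 → Q ≤ X → P ≠ Q → P ⊔ Q = X := by
    rintro X ⟨hX, hc⟩ P Q hP hPX hQ hQX hne
    have h3 : P.subgroupOf X ⊔ Q.subgroupOf X = ⊤ := by
      apply sup_eq_top_sixty hX hc
      · rw [← hP]; exact Nat.card_congr (Subgroup.subgroupOfEquivOfLe hPX).toEquiv
      · rw [← hQ]; exact Nat.card_congr (Subgroup.subgroupOfEquivOfLe hQX).toEquiv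
      · intro e
        rw [Subgroup.subgroupOf_inj, inf_eq_left.2 hPX, inf_eq_left.2 hQX] at e
        exact hne e
    have h4 := congrArg (Subgroup.map X.subtype) h3
    rwa [Subgroup.map_sup, Subgroup.map_subgroupOf_eq_of_le hPX, Subgroup.map_subgroupOf_eq_of_le hQX,
      ← MonoidHom.range_eq_map, X.range_subtype] at h4
  have h3 := ncard_pair_le h1 h2
  obtain ⟨s1, s2, s3⟩ := sylow_facts (G := B) (m := 653184) Nat.prime_five (by rw [hB]) (by norm_num)
  rw [ncard_order_p Nat.prime_five s3] at h3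
  have h4 : Nat.card (Sylow 5 B) ≤ 163296 := by
    obtain ⟨c, hc⟩ := s1
    have h5 : c % 5 = 4 := by
      have h6 : (Nat.card (Sylow 5 B) * c) % 5 = 4 := by rw [← hc]
      rw [Nat.mul_mod, s2] at h6
      omega
    have h7 : 4 ≤ c := by omega
    nlinarith [Nat.mul_le_mul_left (Nat.card (Sylow 5 B)) h7]
  have h5 : Nat.card (Sylow 5 B) ^ 2 ≤ 163296 ^ 2 := Nat.pow_le_pow_left h4 2
  omega

theorem ncard_168 [Finite B] (hB : Nat.card B = 3265920) :
    {X : Subgroup B | IsSimpleGroup X ∧ Nat.card X = 168}.ncard ≤ 431901257 := by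
  have hp7 : Nat.Prime 7 := by norm_num
  have h1 : ∀ X ∈ {X : Subgroup B | IsSimpleGroup X ∧ Nat.card X = 168}, {P : Subgroup B | Nat.card P = 7 ∧ P ≤ X}.ncard = 8 := by
    rintro X ⟨hX, hc⟩
    obtain ⟨s1, s2, s3⟩ := sylow_facts (G := X) (m := 24) hp7 (by rw [hc]) (by norm_num)
    have s4 := sylow_ne_one hX (m := 24) hp7 (by rw [hc]) (by norm_num) (by norm_num)
    rw [ncard_sub, ncard_order_p hp7 s3]
    have h2 := Nat.le_of_dvd (by norm_num) s1
    generalize Nat.card (Sylow 7 X) = n at *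
    interval_cases n <;> omega
  have h2 : ∀ X ∈ {X : Subgroup B | IsSimpleGroup X ∧ Nat.card X = 168}, ∀ P Q : Subgroup B, Nat.card P = 7 → P ≤ X →
      Nat.card Q = 7 → Q ≤ X → P ≠ Q → P ⊔ Q = X := by
    rintro X ⟨hX, hc⟩ P Q hP hPX hQ hQX hne
    have h3 : P.subgroupOf X ⊔ Q.subgroupOf X = ⊤ := by
      apply sup_eq_top_168 hX hc
      · rw [← hP]; exact Nat.card_congr (Subgroup.subgroupOfEquivOfLe hPX).toEquiv
      · rw [← hQ]; exact Nat.card_congr (Subgroup.subgroupOfEquivOfLe hQX).toEquiv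
      · intro e
        rw [Subgroup.subgroupOf_inj, inf_eq_left.2 hPX, inf_eq_left.2 hQX] at e
        exact hne e
    have h4 := congrArg (Subgroup.map X.subtype) h3
    rwa [Subgroup.map_sup, Subgroup.map_subgroupOf_eq_of_le hPX, Subgroup.map_subgroupOf_eq_of_le hQX,
      ← MonoidHom.range_eq_map, X.range_subtype] at h4
  have h3 := ncard_pair_le h1 h2
  obtain ⟨s1, s2, s3⟩ := sylow_facts (G := B) (m := 466560) hp7 (by rw [hB]) (by norm_num)
  rw [ncard_order_p hp7 s3] at h3
  have h4 : Nat.card (Sylow 7 B) ≤ 155520 := by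
    obtain ⟨c, hc⟩ := s1
    have h5 : c % 7 = 3 := by
      have h6 : (Nat.card (Sylow 7 B) * c) % 7 = 3 := by rw [← hc]
      rw [Nat.mul_mod, s2] at h6
      omega
    have h7 : 3 ≤ c := by omega
    nlinarith [Nat.mul_le_mul_left (Nat.card (Sylow 7 B)) h7]
  have h5 : Nat.card (Sylow 7 B) ^ 2 ≤ 155520 ^ 2 := Nat.pow_le_pow_left h4 2
  omega

theorem ncard_big [Finite B] (hB : Nat.card B = 3265920)
    (hgen : ∀ X : Subgroup B, IsSimpleGroup X → ∃ a b : X, closure ({a, b} : Set X) = ⊤) :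
    {X : Subgroup B | (IsSimpleGroup X ∧ ¬ Group.IsSolvable X) ∧ 360 ≤ Nat.card X}.ncard ≤ 29628426240 := by
  have h1 := ncard_simple_mul_le (B := B) (𝒮 := {X : Subgroup B | (IsSimpleGroup X ∧ ¬ Group.IsSolvable X) ∧ 360 ≤ Nat.card X})
    (c := 360) (fun X hX => hX.1) (fun X hX => hgen X hX.1.1) (fun X hX => hX.2)
  rw [hB] at h1
  omega

theorem ncard_simple [Finite B] (hB : Nat.card B = 3265920)
    (hgen : ∀ X : Subgroup B, IsSimpleGroup X → ∃ a b : X, closure ({a, b} : Set X) = ⊤)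
    (hsm : ∀ X : Subgroup B, IsSimpleGroup X → ¬ Group.IsSolvable X → Nat.card X < 360 → Nat.card X = 60 ∨ Nat.card X = 168) :
    {X : Subgroup B | IsSimpleGroup X ∧ ¬ Group.IsSolvable X}.ncard ≤ 30949180284 := by
  have hsub : {X : Subgroup B | IsSimpleGroup X ∧ ¬ Group.IsSolvable X} ⊆
      ({X : Subgroup B | IsSimpleGroup X ∧ Nat.card X = 60} ∪ {X : Subgroup B | IsSimpleGroup X ∧ Nat.card X = 168}) ∪
      {X : Subgroup B | (IsSimpleGroup X ∧ ¬ Group.IsSolvable X) ∧ 360 ≤ Nat.card X} := by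
    rintro X ⟨h1, h2⟩
    by_cases h : 360 ≤ Nat.card X
    · exact Or.inr ⟨⟨h1, h2⟩, h⟩
    · left
      rcases hsm X h1 h2 (by omega) with h3 | h3
      · exact Or.inl ⟨h1, h3⟩
      · exact Or.inr ⟨h1, h3⟩
  have h1 := ncard_sixty hB
  have h2 := ncard_168 hB
  have h3 := ncard_big hB hgen
  refine (Set.ncard_le_ncard hsub (Set.toFinite _)).trans ((Set.ncard_union_le _ _).trans ?_)
  have h4 := Set.ncard_union_le {X : Subgroup B | IsSimpleGroup X ∧ Nat.card X = 60} {X : Subgroup B | IsSimpleGroup X ∧ Nat.card X = 168}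
  omega

end Cfsg.Agent.H52.EP
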