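import Cfsg.Agent.H284.EP.TForm
import Cfsg.Agent.H173.EP.LineBound
import Cfsg.Agent.H52.EP.Small

/-!
# S3499, `U₄(3)` (helper52): the bound of the index
-/

set_option autoImplicit false
set_option linter.unusedSectionVars false

namespace Cfsg.Agent.H52.EP

open Subgroup Cfsg.Agent.H284 Cfsg.Agent.H59.EP

section Base

variable {Q : Type*} [Group Q] [Finite Q] {A N : Subgroup Q} {Γ : Subgroup (MulAut Q)} (h : EPT A Γ) (hNA : N ≤ A)
  (hN : ∀ a ∈ A, ∀ n ∈ N, a * n * a⁻¹ ∈ N) (hC : ∀ a ∈ A, (∀ n ∈ N, a * n = n * a) → a = 1) (hs : IsSimpleGroup N)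

include h hNA hN hC hs

/-- `N` is invariant under `Γ` -/
theorem inv_N {σ : MulAut Q} (hσ : σ ∈ Γ) {n : Q} (hn : n ∈ N) : σ n ∈ N := by
  set N' : Subgroup Q := N.map σ.toMonoidHom with hN'
  have hN'A : N' ≤ A := by
    rintro _ ⟨y, hy, rfl⟩
    exact (h.inv σ hσ y).2 (hNA hy)
  have hN'n : ∀ a ∈ A, ∀ y ∈ N', a * y * a⁻¹ ∈ N' := by
    rintro a ha _ ⟨y, hy, rfl⟩
    have h1 : σ⁻¹ a ∈ A := (h.inv σ⁻¹ (inv_mem hσ) a).2 ha
    refine ⟨σ⁻¹ a * y * (σ⁻¹ a)⁻¹, hN _ h1 y hy, ?_⟩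
    show σ (σ⁻¹ a * y * (σ⁻¹ a)⁻¹) = a * σ y * a⁻¹
    rw [map_mul, map_mul, map_inv, MulAut.apply_inv_self]
  have hn' : ((N' ⊓ N).subgroupOf N).Normal := ⟨by
    rintro ⟨y, hy⟩ hy' ⟨a, ha⟩
    exact ⟨hN'n a (hNA ha) y (mem_inf.1 hy').1, N.mul_mem (N.mul_mem ha hy) (N.inv_mem ha)⟩⟩
  rcases hs.eq_bot_or_eq_top_of_normal _ hn' with h1 | h1
  · exfalso
    have h2 : ∀ y ∈ N', y = 1 := by
      intro y hy
      apply hC y (hN'A hy)
      intro m hm
      have h3 : y * m * y⁻¹ * m⁻¹ ∈ N' ⊓ N := by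
        refine ⟨?_, N.mul_mem (hN y (hN'A hy) m hm) (N.inv_mem hm)⟩
        have e : y * m * y⁻¹ * m⁻¹ = y * (m * y⁻¹ * m⁻¹) := by group
        rw [e]
        exact N'.mul_mem hy (hN'n m (hNA hm) _ (N'.inv_mem hy))
      have h4 : (⟨_, (mem_inf.1 h3).2⟩ : N) ∈ (N' ⊓ N).subgroupOf N := h3
      rw [h1, mem_bot] at h4
      have h5 : y * m * y⁻¹ * m⁻¹ = 1 := Subtype.ext_iff.1 h4
      rwa [mul_inv_eq_one, mul_inv_eq_iff_eq_mul] at h5
    obtain ⟨a, b, hab⟩ := hs.toNontrivial.exists_pair_ne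
    apply hab
    have h6 : ∀ c : N, c = 1 := by
      intro c
      have h7 := h2 (σ c) ⟨c, c.2, rfl⟩
      rw [← map_one σ] at h7
      exact Subtype.ext (σ.injective h7)
    rw [h6 a, h6 b]
  · have h2 : N ≤ N' := by
      intro y hy
      have h3 : (⟨y, hy⟩ : N) ∈ (N' ⊓ N).subgroupOf N := by rw [h1]; exact mem_top _
      exact (mem_inf.1 h3).1
    have h3 : N = N' := by
      apply Subgroup.eq_of_le_of_card_ge h2
      rw [hN']
      exact (Nat.card_congr (N.equivMapOfInjective _ σ.injective).toEquiv).symm.le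
    rw [h3]
    exact ⟨n, hn, rfl⟩

/-- characteristic subgroups of `N ∩ A^x` are invariant under `Γ_x` -/
theorem char_inv {x : Q} (Y : Subgroup (N ⊓ cj x A : Subgroup Q)) [hY : Y.Characteristic] {σ : MulAut Q}
    (hσ : σ ∈ Γ) (hσx : x⁻¹ * σ x ∈ A) : ∀ k ∈ Y.map (Subgroup.subtype _), σ k ∈ Y.map (Subgroup.subtype _) := by
  have hs' : ∀ y : (N ⊓ cj x A : Subgroup Q), σ y ∈ N ⊓ cj x A := fun y =>
    ⟨inv_N h hNA hN hC hs hσ (mem_inf.1 y.2).1,
      (mem_inf.1 (h.stab_M0 hσ hσx (y := y) ⟨hNA (mem_inf.1 y.2).1, (mem_inf.1 y.2).2⟩)).2⟩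
  let f : (N ⊓ cj x A : Subgroup Q) →* (N ⊓ cj x A : Subgroup Q) :=
    (σ.toMonoidHom.comp (Subgroup.subtype _)).codRestrict _ hs'
  have hf : Function.Injective f := by
    intro y z e
    have e' : σ y = σ z := Subtype.ext_iff.1 e
    exact Subtype.ext (σ.injective e')
  let τ : MulAut (N ⊓ cj x A : Subgroup Q) := MulEquiv.ofBijective f (Finite.injective_iff_bijective.1 hf)
  have hτ : Y.map τ.toMonoidHom = Y := Subgroup.characteristic_iff_map_eq.1 hY τ
  rintro _ ⟨k, hk, rfl⟩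
  have h1 : τ k ∈ Y := by
    rw [← hτ]
    exact ⟨k, hk, rfl⟩
  exact ⟨τ k, h1, rfl⟩

/-- characteristic subgroups of `N ∩ A^x` -/
theorem norm_N {x : Q} (hx : x ∉ A) (Y : Subgroup (N ⊓ cj x A : Subgroup Q)) [hY : Y.Characteristic] (hne : Y ≠ ⊥)
    {a : Q} (ha : a ∈ A) (haY : ∀ k ∈ Y.map (Subgroup.subtype _), a * k * a⁻¹ ∈ Y.map (Subgroup.subtype _)) :
    a ∈ cj x A := by
  rw [← h.conj_stab ha]
  refine h.norm x hx (Y.map (Subgroup.subtype _)) ?_ ?_ ?_ _ ((h.conj a).2 ha) haY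
  · rintro _ ⟨y, _, rfl⟩
    exact ⟨hNA (mem_inf.1 y.2).1, (mem_inf.1 y.2).2⟩
  · intro σ hσ hσx
    exact char_inv h hNA hN hC hs Y hσ hσx
  · intro e
    rw [Subgroup.map_eq_bot_iff_of_injective _ (Subgroup.subtype_injective _)] at e
    exact hne e

/-- conversely `A ∩ A^x` normalises them -/
theorem norm_N' {x : Q} (Y : Subgroup (N ⊓ cj x A : Subgroup Q)) [hY : Y.Characteristic]
    {a : Q} (ha : a ∈ A) (hax : a ∈ cj x A) :
    ∀ k ∈ Y.map (Subgroup.subtype _), a * k * a⁻¹ ∈ Y.map (Subgroup.subtype _) :=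
  char_inv h hNA hN hC hs Y ((h.conj a).2 ha) ((h.conj_stab ha).2 hax)

/-- `|A| |N ∩ A^x| ≤ |N| |A ∩ A^x|` -/
theorem card_le_M {x : Q} (hx : x ∉ A) : Nat.card A * Nat.card (N ⊓ cj x A : Subgroup Q) ≤
    Nat.card N * Nat.card (A ⊓ cj x A : Subgroup Q) := by
  have hne : N ≠ ⊥ := by
    rintro e
    obtain ⟨a, b, hab⟩ := hs.toNontrivial.exists_pair_ne
    apply hab
    apply Subtype.ext
    have ha : (a : Q) ∈ (⊥ : Subgroup Q) := e ▸ a.2
    have hb : (b : Q) ∈ (⊥ : Subgroup Q) := e ▸ b.2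
    rw [mem_bot] at ha hb
    rw [ha, hb]
  have hf : ∀ a : A, ∃ k : N, ∃ m : (A ⊓ cj x A : Subgroup Q), (a : Q) = k * m := by
    intro a
    obtain ⟨k, hk, m, hm, e⟩ := h.fac_A hNA (fun σ hσ k hk => inv_N h hNA hN hC hs hσ hk) hne hx a.2
    exact ⟨⟨k, hk⟩, ⟨m, hm⟩, e⟩
  choose k m hkm using hf
  rw [← Nat.card_prod, ← Nat.card_prod]
  apply Nat.card_le_card_of_injective (fun p : A × (N ⊓ cj x A : Subgroup Q) =>
    ((k p.1 * ⟨(p.2 : Q), (mem_inf.1 p.2.2).1⟩⁻¹, ⟨(p.2 : Q), hNA (mem_inf.1 p.2.2).1, (mem_inf.1 p.2.2).2⟩ * m p.1) :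
      N × (A ⊓ cj x A : Subgroup Q)))
  rintro ⟨a, c⟩ ⟨b, d⟩ e
  rw [Prod.mk.injEq] at e
  obtain ⟨e1, e2⟩ := e
  have e3 : (k a : Q) * (c : Q)⁻¹ = k b * (d : Q)⁻¹ := congrArg Subtype.val e1
  have e4 : (c : Q) * m a = d * m b := congrArg Subtype.val e2
  have h1 : (a : Q) = b := by
    rw [hkm a, hkm b]
    have h2 : (k a : Q) * m a = (k a * (c : Q)⁻¹) * (c * m a) := by group
    rw [h2, e3, e4]
    group
  have h2 : a = b := Subtype.ext h1
  subst h2
  have h3 : (c : Q) = d := by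
    have := mul_left_cancel e3
    exact inv_injective this
  exact Prod.ext rfl (Subtype.ext h3)

omit h hC hs hN in
/-- `|N| |A ∩ A^x| ≤ |A| |N ∩ A^x|` -/
theorem card_M_le {x : Q} : Nat.card N * Nat.card (A ⊓ cj x A : Subgroup Q) ≤
    Nat.card A * Nat.card (N ⊓ cj x A : Subgroup Q) := by
  have h1 : N.relIndex (A ⊓ cj x A) ≤ N.relIndex A := relIndex_le_of_le_right inf_le_left (by
    rw [relIndex]
    exact Subgroup.index_ne_zero_of_finite)
  have h2 : N.relIndex A * Nat.card N = Nat.card A := by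
    have h3 := Subgroup.card_mul_index (N.subgroupOf A)
    rw [Nat.card_congr (Subgroup.subgroupOfEquivOfLe hNA).toEquiv] at h3
    rw [relIndex, mul_comm]
    exact h3
  have h4 : N.relIndex (A ⊓ cj x A) * Nat.card (N ⊓ cj x A : Subgroup Q) = Nat.card (A ⊓ cj x A : Subgroup Q) := by
    have h3 := Subgroup.card_mul_index (N.subgroupOf (A ⊓ cj x A))
    have h5 : Nat.card (N.subgroupOf (A ⊓ cj x A)) = Nat.card (N ⊓ cj x A : Subgroup Q) := by
      rw [← Subgroup.inf_subgroupOf_right]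
      have h6 : N ⊓ (A ⊓ cj x A) = N ⊓ cj x A := by rw [← inf_assoc, inf_eq_left.2 hNA]
      rw [h6]
      exact Nat.card_congr (Subgroup.subgroupOfEquivOfLe (inf_le_inf_right _ hNA)).toEquiv
    rw [h5] at h3
    rw [relIndex, mul_comm]
    exact h3
  calc Nat.card N * Nat.card (A ⊓ cj x A : Subgroup Q)
      = N.relIndex (A ⊓ cj x A) * (Nat.card N * Nat.card (N ⊓ cj x A : Subgroup Q)) := by rw [← h4]; ring
    _ ≤ N.relIndex A * (Nat.card N * Nat.card (N ⊓ cj x A : Subgroup Q)) := Nat.mul_le_mul_right _ h1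
    _ = Nat.card A * Nat.card (N ⊓ cj x A : Subgroup Q) := by rw [← h2]; ring

end Base

section Num

variable {Q : Type*} [Group Q] [Finite Q] {A N : Subgroup Q} {Γ : Subgroup (MulAut Q)} (h : EPT A Γ) (hNA : N ≤ A)
  (hN : ∀ a ∈ A, ∀ n ∈ N, a * n * a⁻¹ ∈ N) (hC : ∀ a ∈ A, (∀ n ∈ N, a * n = n * a) → a = 1) (hs : IsSimpleGroup N)
  (hcN : Nat.card N = 3265920) {k : ℕ} (hk : k ∣ 8) (hcA : Nat.card A = Nat.card N * k)

include h hNA hN hC hs hcN hk hcA

omit h hC hs hcN in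
/-- `a ^ 8 ∈ N` -/
theorem pow_eight {a : Q} (ha : a ∈ A) : a ^ 8 ∈ N := by
  have hn : (N.subgroupOf A).Normal := ⟨by
    rintro ⟨n, hn'⟩ hn ⟨a, ha⟩
    exact hN a ha n hn⟩
  have h1 := Subgroup.card_mul_index (N.subgroupOf A)
  rw [Nat.card_congr (Subgroup.subgroupOfEquivOfLe hNA).toEquiv, hcA] at h1
  have h2 : (N.subgroupOf A).index = k := Nat.eq_of_mul_eq_mul_left Nat.card_pos h1
  have h3 := Subgroup.pow_index_mem (N.subgroupOf A) (⟨a, ha⟩ : A)
  rw [h2] at h3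
  obtain ⟨c, hc⟩ := hk
  have h4 : a ^ k ∈ N := h3
  rw [hc, pow_mul]
  exact N.pow_mem h4 c

/-- if `N ∩ A^x` is a `2`-group then it has order at least `128` -/
theorem two_group {x : Q} (hx : x ∉ A) (h2 : ∀ y ∈ N ⊓ cj x A, ∃ j : ℕ, y ^ (2 ^ j) = 1) :
    128 ≤ Nat.card (N ⊓ cj x A : Subgroup Q) := by
  have h2' : Fact (Nat.Prime 2) := ⟨Nat.prime_two⟩
  have h3 : ∀ y ∈ A ⊓ cj x A, ∃ j : ℕ, y ^ (2 ^ j) = 1 := by
    intro y hy
    obtain ⟨j, hj⟩ := h2 (y ^ 8) ⟨pow_eight hNA hN hk hcA (mem_inf.1 hy).1, Subgroup.pow_mem _ (mem_inf.1 hy).2 8⟩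
    refine ⟨3 + j, ?_⟩
    rw [pow_add, pow_mul]
    exact hj
  have h4 : IsPGroup 2 ((A ⊓ cj x A).subgroupOf A) := by
    rintro ⟨⟨y, hyA⟩, hy⟩
    obtain ⟨j, hj⟩ := h3 y hy
    exact ⟨j, Subtype.ext (Subtype.ext hj)⟩
  obtain ⟨P, hP⟩ := h4.exists_le_sylow
  have h5 := h.sylow hx Nat.prime_two (R := A ⊓ cj x A) (fun y => ⟨fun hy => ⟨hy, h3 y hy⟩, fun hy => hy.1⟩) (h.M0 x hx)
    (P := (P : Subgroup A).map A.subtype) (by
      rintro _ ⟨y, _, rfl⟩
      exact y.2) (P.isPGroup'.map _) (by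
      intro y hy
      exact ⟨⟨y, (mem_inf.1 hy).1⟩, hP hy, rfl⟩)
  have h6 : Nat.card ((P : Subgroup A).map A.subtype) = Nat.card (P : Subgroup A) :=
    (Nat.card_congr ((P : Subgroup A).equivMapOfInjective _ A.subtype_injective).toEquiv).symm
  have h7 : 2 ^ 7 * k ∣ Nat.card (P : Subgroup A) := by
    obtain ⟨j, hj, rfl⟩ := (Nat.dvd_prime_pow Nat.prime_two (m := 3)).1 hk
    rw [← pow_add]
    apply P.pow_dvd_card_of_pow_dvd_card
    rw [hcA, hcN, pow_add]
    exact Nat.mul_dvd_mul (by norm_num) dvd_rfl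
  rw [← h6, h5] at h7
  have h8 := card_M_le (A := A) hNA (x := x)
  have h9 := Nat.le_of_dvd Nat.card_pos h7
  rw [hcA] at h8
  have hk0 : 0 < k := Nat.pos_of_dvd_of_pos hk (by norm_num)
  have h10 : Nat.card (A ⊓ cj x A : Subgroup Q) ≤ k * Nat.card (N ⊓ cj x A : Subgroup Q) := by
    rw [mul_assoc] at h8
    exact Nat.le_of_mul_le_mul_left h8 Nat.card_pos
  have h11 : k * 128 ≤ k * Nat.card (N ⊓ cj x A : Subgroup Q) := by
    refine le_trans ?_ h10
    rw [mul_comm k]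
    exact h9
  exact Nat.le_of_mul_le_mul_left h11 hk0

/-- `N ∩ A^x ≠ 1` -/
theorem inf_ne_bot {x : Q} (hx : x ∉ A) : N ⊓ cj x A ≠ ⊥ := by
  intro e
  have h1 := two_group h hNA hN hC hs hcN hk hcA hx (by
    intro y hy
    rw [e, mem_bot] at hy
    exact ⟨0, by rw [hy, one_pow]⟩)
  rw [e, Subgroup.card_bot] at h1
  omega

/-- `N ∩ A^x` is not a `3`-group of order `9` -/
theorem not_nine {x : Q} (hx : x ∉ A) : Nat.card (N ⊓ cj x A : Subgroup Q) ≠ 9 := by
  intro h9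
  have h3' : Fact (Nat.Prime 3) := ⟨Nat.prime_three⟩
  have hy9 : ∀ y ∈ N ⊓ cj x A, y ^ (3 ^ 2) = 1 := by
    intro y hy
    have := pow_card_eq_one' (G := (N ⊓ cj x A : Subgroup Q)) (x := ⟨y, hy⟩)
    rw [h9] at this
    exact Subtype.ext_iff.1 this
  have hp : IsPGroup 3 ((N ⊓ cj x A).subgroupOf A) := by
    rintro ⟨⟨y, hyA⟩, hy⟩
    exact ⟨2, Subtype.ext (Subtype.ext (hy9 y hy))⟩
  obtain ⟨P, hP⟩ := hp.exists_le_sylow
  have h5 := h.sylow hx Nat.prime_three (R := N ⊓ cj x A) (fun y => ?_) (inf_ne_bot h hNA hN hC hs hcN hk hcA hx)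
    (P := (P : Subgroup A).map A.subtype) (by
      rintro _ ⟨y, _, rfl⟩
      exact y.2) (P.isPGroup'.map _) (by
      intro y hy
      exact ⟨⟨y, hNA (mem_inf.1 hy).1⟩, hP hy, rfl⟩)
  · have h6 : Nat.card ((P : Subgroup A).map A.subtype) = Nat.card (P : Subgroup A) :=
      (Nat.card_congr ((P : Subgroup A).equivMapOfInjective _ A.subtype_injective).toEquiv).symm
    have h7 : 3 ^ 3 ∣ Nat.card (P : Subgroup A) := by
      apply P.pow_dvd_card_of_pow_dvd_card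
      rw [hcA, hcN]
      exact Dvd.dvd.mul_right (by norm_num) k
    rw [← h6, h5, h9] at h7
    norm_num at h7
  · constructor
    · intro hy
      exact ⟨⟨hNA (mem_inf.1 hy).1, (mem_inf.1 hy).2⟩, 2, hy9 y hy⟩
    · rintro ⟨hy, j, hj⟩
      have h8 : y ^ 8 ∈ N ⊓ cj x A := ⟨pow_eight hNA hN hk hcA (mem_inf.1 hy).1, Subgroup.pow_mem _ (mem_inf.1 hy).2 8⟩
      have h10 : (y ^ 8) ^ (3 ^ 2) = 1 := hy9 _ h8
      have h11 : orderOf y ∣ 3 ^ j := orderOf_dvd_of_pow_eq_one hj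
      have h12 : orderOf y ∣ 8 * 3 ^ 2 := orderOf_dvd_of_pow_eq_one (by rw [pow_mul]; exact h10)
      have h13 : Nat.Coprime (orderOf y) 8 :=
        Nat.Coprime.coprime_dvd_left h11 (Nat.Coprime.pow_left j (by norm_num))
      have h14 : orderOf y ∣ 9 := h13.dvd_of_dvd_mul_left h12
      have h15 : y ^ 9 = 1 := orderOf_dvd_iff_pow_eq_one.1 h14
      have h16 : y = (y ^ 8) ^ 8 := by
        rw [← pow_mul]
        have : y ^ (8 * 8) = y ^ (9 * 7 + 1) := by norm_num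
        rw [this, pow_succ, pow_mul, h15, one_pow, one_mul]
      rw [h16]
      exact Subgroup.pow_mem _ h8 8

omit h hC hs hk hcA in
/-- the normaliser in `N` of a subgroup of order `p ^ n` -/
theorem dvd_of_norm {p n : ℕ} (hp : p.Prime) (hd : p ^ (n + 1) ∣ 3265920) {X : Subgroup Q} (hX : X ≤ N)
    (hcX : Nat.card X = p ^ n) {M : Subgroup Q} (hM : ∀ a ∈ N, (∀ y ∈ X, a * y * a⁻¹ ∈ X) → a ∈ M) (hMN : M ≤ N) :
    p ^ (n + 1) ∣ Nat.card M := by
  have hfact : Fact p.Prime := ⟨hp⟩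
  have h1 : Nat.card (X.subgroupOf N) = p ^ n := by
    rw [← hcX]
    exact Nat.card_congr (Subgroup.subgroupOfEquivOfLe hX).toEquiv
  have h2 := Sylow.prime_pow_dvd_card_normalizer (G := N) (by rw [hcN]; exact hd) h1
  refine h2.trans ?_
  have h3 : (normalizer ((X.subgroupOf N : Subgroup N) : Set N)) ≤ M.subgroupOf N := by
    intro a ha
    apply hM a a.2
    intro y hy
    exact (mem_normalizer_iff.1 ha ⟨y, hX hy⟩).1 hy
  have h4 := Subgroup.card_dvd_of_le h3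
  rwa [Nat.card_congr (Subgroup.subgroupOfEquivOfLe hMN).toEquiv] at h4

omit h hC hs hk hcA in
/-- the normaliser in `N` of a Sylow subgroup of order `p` -/
theorem sylow_norm {p m c : ℕ} (hp : p.Prime) (hm : 3265920 = p * m) (hpm : ¬ p ∣ m)
    (hc : ∀ n e : ℕ, n % p = 1 % p → n * e = m → c ≤ e) {X : Subgroup Q} (hX : X ≤ N)
    (hcX : Nat.card X = p) {M : Subgroup Q} (hM : ∀ a ∈ N, (∀ y ∈ X, a * y * a⁻¹ ∈ X) → a ∈ M) (hMN : M ≤ N) :
    p * c ≤ Nat.card M := by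
  have hfact : Fact p.Prime := ⟨hp⟩
  have h1 : Nat.card (X.subgroupOf N) = p := by
    rw [← hcX]
    exact Nat.card_congr (Subgroup.subgroupOfEquivOfLe hX).toEquiv
  obtain ⟨s1, s2, s3⟩ := sylow_facts (G := N) hp (hcN.trans hm) hpm
  let P : Sylow p N := Sylow.ofCard (X.subgroupOf N) (by rw [s3, pow_one]; exact h1)
  have h2 := P.card_eq_index_normalizer
  have h3 := (normalizer (P : Set N)).card_mul_index
  rw [← h2, hcN, hm] at h3
  have h4 : p ∣ Nat.card (normalizer (P : Set N)) := by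
    conv_lhs => rw [← h1]
    exact Subgroup.card_dvd_of_le (le_normalizer (H := (P : Subgroup N)))
  obtain ⟨e, he⟩ := h4
  have h5 : Nat.card (Sylow p N) * e = m := by
    rw [he] at h3
    have h6 : p * (Nat.card (Sylow p N) * e) = p * m := by rw [← h3]; ring
    exact Nat.eq_of_mul_eq_mul_left hp.pos h6
  have h7 := hc _ e s2 h5
  have h8 : (normalizer (P : Set N)) ≤ M.subgroupOf N := by
    intro a ha
    apply hM a a.2
    intro y hy
    exact (mem_normalizer_iff.1 ha ⟨y, hX hy⟩).1 hy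
  have h9 := Nat.le_of_dvd Nat.card_pos (Subgroup.card_dvd_of_le h8)
  rw [Nat.card_congr (Subgroup.subgroupOfEquivOfLe hMN).toEquiv, he] at h9
  exact (Nat.mul_le_mul_left p h7).trans h9

/-- **the key**: for every `x ∉ A` there is `X` -/
theorem key {x : Q} (hx : x ∉ A) : ∃ X : Subgroup Q, X ≤ N ∧
    (∀ a ∈ A, (∀ k ∈ X, a * k * a⁻¹ ∈ X) ↔ a ∈ cj x A) ∧ 12 ≤ Nat.card (N ⊓ cj x A : Subgroup Q) ∧
    ((∃ s ∈ ({2, 3, 5, 7} : Finset ℕ), ElAb s X ∧ X ≠ ⊥) ∨ (IsSimpleGroup X ∧ ¬ Group.IsSolvable X)) := by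
  have hMn : Nontrivial (N ⊓ cj x A : Subgroup Q) :=
    (Subgroup.nontrivial_iff_ne_bot _).2 (inf_ne_bot h hNA hN hC hs hcN hk hcA hx)
  obtain ⟨Y, hY, hYne, hYmin⟩ := exists_min_char (B := (N ⊓ cj x A : Subgroup Q))
  have hYn : Nontrivial Y := (Subgroup.nontrivial_iff_ne_bot Y).2 hYne
  have hYc : ∀ Z : Subgroup Y, Z.Characteristic → Z = ⊥ ∨ Z = ⊤ := by
    intro Z hZ
    by_cases hZb : Z = ⊥
    · exact Or.inl hZb
    right
    have h1 := hYmin (Z.map Y.subtype) char_trans (by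
      rintro _ ⟨z, _, rfl⟩
      exact z.2) (by
      intro e
      rw [Subgroup.map_eq_bot_iff_of_injective _ Y.subtype_injective] at e
      exact hZb e)
    rw [Subgroup.eq_top_iff']
    intro y
    have h2 : (y : (N ⊓ cj x A : Subgroup Q)) ∈ Z.map Y.subtype := by rw [h1]; exact y.2
    obtain ⟨z, hz, e⟩ := h2
    have : z = y := Subtype.ext e
    rw [← this]
    exact hz
  set X : Subgroup Q := Y.map (N ⊓ cj x A : Subgroup Q).subtype with hX
  have hXle : X ≤ N ⊓ cj x A := by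
    rintro _ ⟨y, _, rfl⟩
    exact y.2
  have hXN : X ≤ N := hXle.trans inf_le_left
  have hcard : Nat.card X = Nat.card Y :=
    (Nat.card_congr (Y.equivMapOfInjective _ (N ⊓ cj x A : Subgroup Q).subtype_injective).toEquiv).symm
  have e : Y ≃* X := Y.equivMapOfInjective _ (N ⊓ cj x A : Subgroup Q).subtype_injective
  have hXd : Nat.card X ∣ 3265920 := by
    rw [← hcN]
    exact Subgroup.card_dvd_of_le hXN
  have hXne : X ≠ ⊥ := by
    intro e
    rw [hX, Subgroup.map_eq_bot_iff_of_injective _ (N ⊓ cj x A : Subgroup Q).subtype_injective] at e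
    exact hYne e
  have hnorm : ∀ a ∈ A, (∀ k ∈ X, a * k * a⁻¹ ∈ X) → a ∈ cj x A := fun a ha hak =>
    norm_N h hNA hN hC hs hx Y hYne ha hak
  have hnormN : ∀ a ∈ N, (∀ k ∈ X, a * k * a⁻¹ ∈ X) → a ∈ N ⊓ cj x A := fun a ha hak =>
    ⟨ha, hnorm a (hNA ha) hak⟩
  have h5 : ∀ p, p.Prime → 5 ≤ p → ¬ p ^ 2 ∣ Nat.card Y := by
    intro p hp hp5 hd
    have h6 : p ^ 2 ∣ 3265920 := by
      rw [← hcard] at hd
      exact hd.trans hXd
    have h7 : (3265920 : ℕ) = 2 ^ 7 * 3 ^ 6 * 5 * 7 := by norm_num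
    rw [h7] at h6
    have hc2 : Nat.Coprime (p ^ 2) (2 ^ 7 * 3 ^ 6) := by
      apply Nat.Coprime.pow_left
      rw [Nat.coprime_primes hp Nat.prime_two |>.2 (by omega) |> fun h => Nat.coprime_mul_iff_right]
      exact ⟨((Nat.coprime_primes hp Nat.prime_two).2 (by omega)).pow_right 7,
        ((Nat.coprime_primes hp Nat.prime_three).2 (by omega)).pow_right 6⟩
    have h8 : p ^ 2 ∣ 35 := by
      have : (2 ^ 7 * 3 ^ 6 * 5 * 7 : ℕ) = 2 ^ 7 * 3 ^ 6 * 35 := by norm_num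
      rw [this] at h6
      exact hc2.dvd_of_dvd_mul_left h6
    have h9 := Nat.le_of_dvd (by norm_num) h8
    have h10 : p ≤ 5 := by nlinarith
    have h11 : p = 5 := by omega
    rw [h11] at h8
    norm_num at h8
  refine ⟨X, hXN, fun a ha => ⟨hnorm a ha, fun hax => norm_N' h hNA hN hC hs Y ha hax⟩, ?_⟩
  rcases char_simple hYc h5 with ⟨s, hs', hsd, hel⟩ | ⟨h1, h2⟩
  · have hsd' : s ∣ 3265920 := by
      rw [← hcard] at hsd
      exact hsd.trans hXd
    have hs4 : s ∈ ({2, 3, 5, 7} : Finset ℕ) := by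
      have h7 : (3265920 : ℕ) = 2 ^ 7 * 3 ^ 6 * 5 * 7 := by norm_num
      rw [h7] at hsd'
      rcases (Nat.Prime.dvd_mul hs').1 hsd' with h8 | h8
      · rcases (Nat.Prime.dvd_mul hs').1 h8 with h9 | h9
        · rcases (Nat.Prime.dvd_mul hs').1 h9 with h10 | h10
          · rw [(Nat.prime_dvd_prime_iff_eq hs' Nat.prime_two).1 (hs'.dvd_of_dvd_pow h10)]; simp
          · rw [(Nat.prime_dvd_prime_iff_eq hs' Nat.prime_three).1 (hs'.dvd_of_dvd_pow h10)]; simp
        · rw [(Nat.prime_dvd_prime_iff_eq hs' Nat.prime_five).1 h9]; simp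
      · rw [(Nat.prime_dvd_prime_iff_eq hs' (by norm_num)).1 h8]; simp
    have hXel : ElAb s X := by
      refine ⟨?_, ?_⟩
      · rintro _ ⟨a, ha, rfl⟩ _ ⟨b, hb, rfl⟩
        have := hel.comm ⟨a, ha⟩ (mem_top _) ⟨b, hb⟩ (mem_top _)
        have h1 : a * b = b * a := Subtype.ext_iff.1 this
        rw [← map_mul, ← map_mul, h1]
      · rintro _ ⟨a, ha, rfl⟩
        have := hel.exp ⟨a, ha⟩ (mem_top _)
        have h1 : a ^ s = 1 := Subtype.ext_iff.1 this
        rw [← map_pow, h1, map_one]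
    refine ⟨?_, Or.inl ⟨s, hs4, hXel, hXne⟩⟩
    have hfact : Fact s.Prime := ⟨hs'⟩
    have hps : IsPGroup s X := by
      rintro ⟨y, hy⟩
      refine ⟨1, Subtype.ext ?_⟩
      rw [pow_one]
      exact hXel.exp y hy
    obtain ⟨j, hj⟩ := IsPGroup.iff_card.1 hps
    have hj0 : j ≠ 0 := by
      rintro rfl
      apply hXne
      rw [← Subgroup.card_eq_one, hj, pow_zero]
    have hjd : s ^ j ∣ 3265920 := by rw [← hj]; exact hXd
    simp only [Finset.mem_insert, Finset.mem_singleton] at hs4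
    rcases hs4 with rfl | rfl | rfl | rfl
    · -- s = 2
      have h12 : 4 ∣ Nat.card (N ⊓ cj x A : Subgroup Q) := by
        by_cases h13 : 2 ^ (j + 1) ∣ 3265920
        · have h14 := dvd_of_norm hNA hN hcN Nat.prime_two h13 hXN hj hnormN inf_le_left
          refine dvd_trans ?_ h14
          exact (pow_dvd_pow 2 (show 2 ≤ j + 1 by omega))
        · have h15 : 2 ≤ j := by
            by_contra h16
            have : j = 1 := by omega
            rw [this] at h13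
            norm_num at h13
          refine dvd_trans ?_ (Subgroup.card_dvd_of_le hXle)
          rw [hj]
          exact (pow_dvd_pow 2 h15)
      by_contra hlt
      have h16 : Nat.card (N ⊓ cj x A : Subgroup Q) = 4 ∨ Nat.card (N ⊓ cj x A : Subgroup Q) = 8 := by
        have := Nat.card_pos (α := (N ⊓ cj x A : Subgroup Q))
        omega
      have h17 := two_group h hNA hN hC hs hcN hk hcA hx (by
        intro y hy
        refine ⟨3, ?_⟩
        have h18 := pow_card_eq_one' (G := (N ⊓ cj x A : Subgroup Q)) (x := ⟨y, hy⟩)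
        rcases h16 with h19 | h19
        · rw [h19] at h18
          have h20 : y ^ 4 = 1 := Subtype.ext_iff.1 h18
          rw [show (2 ^ 3 : ℕ) = 4 * 2 by norm_num, pow_mul, h20, one_pow]
        · rw [h19] at h18
          exact Subtype.ext_iff.1 h18)
      omega
    · -- s = 3
      have h12 : 9 ∣ Nat.card (N ⊓ cj x A : Subgroup Q) := by
        by_cases h13 : 3 ^ (j + 1) ∣ 3265920
        · have h14 := dvd_of_norm hNA hN hcN Nat.prime_three h13 hXN hj hnormN inf_le_left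
          refine dvd_trans ?_ h14
          exact (pow_dvd_pow 3 (show 2 ≤ j + 1 by omega))
        · have h15 : 2 ≤ j := by
            by_contra h16
            have : j = 1 := by omega
            rw [this] at h13
            norm_num at h13
          refine dvd_trans ?_ (Subgroup.card_dvd_of_le hXle)
          rw [hj]
          exact (pow_dvd_pow 3 h15)
      have h13 := not_nine h hNA hN hC hs hcN hk hcA hx
      have := Nat.card_pos (α := (N ⊓ cj x A : Subgroup Q))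
      omega
    · -- s = 5
      have hj1 : j = 1 := by
        by_contra hne
        have : 5 ^ 2 ∣ 3265920 := (pow_dvd_pow 5 (show 2 ≤ j by omega)).trans hjd
        norm_num at this
      rw [hj1, pow_one] at hj
      have h12 := sylow_norm hNA hN hcN Nat.prime_five (m := 653184) (c := 4) (by norm_num) (by norm_num) (by
        intro n e hn hne
        have h6 : (n * e) % 5 = 4 := by rw [hne]
        rw [Nat.mul_mod, hn] at h6
        omega) hXN hj hnormN inf_le_left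
      omega
    · -- s = 7
      have hj1 : j = 1 := by
        by_contra hne
        have : 7 ^ 2 ∣ 3265920 := (pow_dvd_pow 7 (show 2 ≤ j by omega)).trans hjd
        norm_num at this
      rw [hj1, pow_one] at hj
      have h12 := sylow_norm hNA hN hcN (show Nat.Prime 7 by norm_num) (m := 466560) (c := 3) (by norm_num) (by norm_num) (by
        intro n e hn hne
        have h6 : (n * e) % 7 = 3 := by rw [hne]
        rw [Nat.mul_mod, hn] at h6
        omega) hXN hj hnormN inf_le_left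
      omega
  · have hXs : IsSimpleGroup X := e.symm.isSimpleGroup
    have hXns : ¬ Group.IsSolvable X := fun h => h2 (Group.isSolvable_of_isSolvable_injective (f := e.toMonoidHom) e.injective)
    refine ⟨?_, Or.inr ⟨hXs, hXns⟩⟩
    have h60 := Cfsg.Agent.H168.NoSolv.sixty_le hXns
    have h61 := Nat.le_of_dvd Nat.card_pos (Subgroup.card_dvd_of_le hXle)
    omega

/-- the number of the `M₀` -/
theorem ncard_M0 (hgen : ∀ X : Subgroup N, IsSimpleGroup X → ∃ a b : X, closure ({a, b} : Set X) = ⊤)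
    (hsm : ∀ X : Subgroup N, IsSimpleGroup X → ¬ Group.IsSolvable X → Nat.card X < 360 →
      Nat.card X = 60 ∨ Nat.card X = 168) :
    {M : Subgroup Q | ∃ x, x ∉ A ∧ M = A ⊓ cj x A}.ncard ≤ 31949325573 := by
  classical
  have key' : ∀ M ∈ {M : Subgroup Q | ∃ x, x ∉ A ∧ M = A ⊓ cj x A}, ∃ X : Subgroup N,
      (∀ a ∈ A, (∀ k ∈ X.map N.subtype, a * k * a⁻¹ ∈ X.map N.subtype) ↔ a ∈ M) ∧ M ≤ A ∧
      ((∃ s ∈ ({2, 3, 5, 7} : Finset ℕ), ElAb s X ∧ X ≠ ⊥) ∨ (IsSimpleGroup X ∧ ¬ Group.IsSolvable X)) := by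
    rintro _ ⟨x, hx, rfl⟩
    obtain ⟨X, hXN, h1, -, h3⟩ := key h hNA hN hC hs hcN hk hcA hx
    have hmap : (X.subgroupOf N).map N.subtype = X := Subgroup.map_subgroupOf_eq_of_le hXN
    refine ⟨X.subgroupOf N, ?_, inf_le_left, ?_⟩
    · intro a ha
      rw [hmap, h1 a ha]
      exact ⟨fun h4 => ⟨ha, h4⟩, fun h4 => h4.2⟩
    · rcases h3 with ⟨s, hs4, hel, hne⟩ | ⟨h4, h5⟩
      · left
        refine ⟨s, hs4, ⟨?_, ?_⟩, ?_⟩
        · intro a ha b hb
          exact Subtype.ext (hel.comm _ ha _ hb)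
        · intro a ha
          exact Subtype.ext (hel.exp _ ha)
        · intro e
          apply hne
          rw [← hmap, e, Subgroup.map_bot]
      · right
        have e := Subgroup.subgroupOfEquivOfLe hXN
        refine ⟨e.isSimpleGroup, fun h6 => h5 ?_⟩
        exact Group.isSolvable_of_isSolvable_injective (f := e.symm.toMonoidHom) e.symm.injective
  choose! f hf1 hf2 hf3 using key'
  have hinj : Set.InjOn f {M : Subgroup Q | ∃ x, x ∉ A ∧ M = A ⊓ cj x A} := by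
    intro M hM M' hM' e
    ext a
    constructor
    · intro ha
      have haA := hf2 M hM ha
      rw [← hf1 M' hM' a haA, ← e, hf1 M hM a haA]
      exact ha
    · intro ha
      have haA := hf2 M' hM' ha
      rw [← hf1 M hM a haA, e, hf1 M' hM' a haA]
      exact ha
  rw [← hinj.ncard_image]
  have hsub : f '' {M : Subgroup Q | ∃ x, x ∉ A ∧ M = A ⊓ cj x A} ⊆
      (({X : Subgroup N | ElAb 2 X ∧ X ≠ ⊥} ∪ {X : Subgroup N | ElAb 3 X ∧ X ≠ ⊥}) ∪
        ({X : Subgroup N | ElAb 5 X ∧ X ≠ ⊥} ∪ {X : Subgroup N | ElAb 7 X ∧ X ≠ ⊥})) ∪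
      {X : Subgroup N | IsSimpleGroup X ∧ ¬ Group.IsSolvable X} := by
    rintro _ ⟨M, hM, rfl⟩
    rcases hf3 M hM with ⟨s, hs4, hel⟩ | h4
    · left
      simp only [Finset.mem_insert, Finset.mem_singleton] at hs4
      rcases hs4 with rfl | rfl | rfl | rfl
      · exact Or.inl (Or.inl hel)
      · exact Or.inl (Or.inr hel)
      · exact Or.inr (Or.inl hel)
      · exact Or.inr (Or.inr hel)
    · exact Or.inr h4
  have c2 := ncard_elab_sylow (B := N) Nat.prime_two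
  have c3 := ncard_elab_sylow (B := N) Nat.prime_three
  have c5 := ncard_elab_sylow (B := N) Nat.prime_five
  have c7 := ncard_elab_sylow (B := N) (show Nat.Prime 7 by norm_num)
  have cs := ncard_simple hcN hgen hsm
  have hfac : ∀ (p e m : ℕ), p.Prime → m ≠ 0 → ¬ p ∣ m → 3265920 = p ^ e * m → (Nat.card N).factorization p = e := by
    intro p e m hp hm hpm heq
    rw [hcN, heq, Nat.factorization_mul (pow_ne_zero _ hp.ne_zero) hm, Finsupp.add_apply, hp.factorization_pow,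
      Finsupp.single_eq_same, Nat.factorization_eq_zero_of_not_dvd hpm, add_zero]
  rw [hfac 2 7 25515 Nat.prime_two (by norm_num) (by norm_num) (by norm_num), hcN,
    show gal 2 7 = 29211 by decide +kernel] at c2
  rw [hfac 3 6 4480 Nat.prime_three (by norm_num) (by norm_num) (by norm_num), hcN,
    show gal 3 6 = 56631 by decide +kernel] at c3
  rw [hfac 5 1 653184 Nat.prime_five (by norm_num) (by norm_num) (by norm_num), hcN,
    show gal 5 1 = 1 by decide +kernel] at c5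
  rw [hfac 7 1 466560 (by norm_num) (by norm_num) (by norm_num) (by norm_num), hcN,
    show gal 7 1 = 1 by decide +kernel] at c7
  norm_num at c2 c3 c5 c7
  have u1 := Set.ncard_union_le {X : Subgroup N | ElAb 2 X ∧ X ≠ ⊥} {X : Subgroup N | ElAb 3 X ∧ X ≠ ⊥}
  have u2 := Set.ncard_union_le {X : Subgroup N | ElAb 5 X ∧ X ≠ ⊥} {X : Subgroup N | ElAb 7 X ∧ X ≠ ⊥}
  have u3 := Set.ncard_union_le ({X : Subgroup N | ElAb 2 X ∧ X ≠ ⊥} ∪ {X : Subgroup N | ElAb 3 X ∧ X ≠ ⊥})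
    ({X : Subgroup N | ElAb 5 X ∧ X ≠ ⊥} ∪ {X : Subgroup N | ElAb 7 X ∧ X ≠ ⊥})
  have u4 := Set.ncard_union_le (({X : Subgroup N | ElAb 2 X ∧ X ≠ ⊥} ∪ {X : Subgroup N | ElAb 3 X ∧ X ≠ ⊥}) ∪
    ({X : Subgroup N | ElAb 5 X ∧ X ≠ ⊥} ∪ {X : Subgroup N | ElAb 7 X ∧ X ≠ ⊥}))
    {X : Subgroup N | IsSimpleGroup X ∧ ¬ Group.IsSolvable X}
  refine (Set.ncard_le_ncard hsub (Set.toFinite _)).trans ?_
  simp only [ne_eq] at *
  omega

/-- the bound of the index -/
theorem index_le (hsQ : IsSimpleGroup Q)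
    (hgen : ∀ X : Subgroup N, IsSimpleGroup X → ∃ a b : X, closure ({a, b} : Set X) = ⊤)
    (hsm : ∀ X : Subgroup N, IsSimpleGroup X → ¬ Group.IsSolvable X → Nat.card X < 360 →
      Nat.card X = 60 ∨ Nat.card X = 168) : A.index ≤ 174 * 10 ^ 14 := by
  have hk0 : 0 < k := Nat.pos_of_dvd_of_pos hk (by norm_num)
  have h1 := Cfsg.Agent.H173.EP.ub1 hsQ h (μ := 12 * k) (by omega) (fun x hx => by
    obtain ⟨_, -, -, h2, -⟩ := key h hNA hN hC hs hcN hk hcA hx
    have h3 := card_le_M h hNA hN hC hs hx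
    rw [hcA, mul_assoc] at h3
    have h4 := Nat.le_of_mul_le_mul_left h3 Nat.card_pos
    nlinarith [Nat.mul_le_mul_left k h2])
  have h2 := ncard_M0 h hNA hN hC hs hcN hk hcA hgen hsm
  have h3 : Nat.card A / (12 * k) = 272160 := by
    rw [hcA, hcN]
    exact Nat.div_eq_of_eq_mul_left (by omega) (by ring)
  rw [h3] at h1
  refine h1.trans ?_
  have h4 := Nat.mul_le_mul_right (2 * 272160) h2
  omega

end Num

end Cfsg.Agent.H52.EP
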